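import Groth.Agent.AmpleLib.Pullback
import Groth.Agent.InfNbhdLib.Scheme
import Groth.Agent.S9515
import Groth.Agent.ProjBundleLib.RelProjQuot
import Groth.Agent.CMRegLib.Res

/-!
# Multiplication maps from tensor powers of an ideal
-/

set_option autoImplicit false
set_option backward.isDefEq.respectTransparency false
set_option maxHeartbeats 1600000

universe u

open CategoryTheory CategoryTheory.Limits AlgebraicGeometry TopologicalSpace Opposite
open scoped TensorProduct
open Groth.Agent.DCohLib Groth.Agent.PullbackMod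

noncomputable section

namespace Groth.Agent.TPowGenLib

variable {X : Scheme.{u}}

/-- A functorial tensor power. -/
def powMap {L M : X.Modules} (g : L ⟶ M) :
    ∀ n, CohB1.tensorPow L n ⟶ CohB1.tensorPow M n
  | 0 => 𝟙 _
  | n + 1 => ((DCoh.tensorBi (X := X)).map (powMap g n)).app L ≫
      ((DCoh.tensorBi (X := X)).obj (CohB1.tensorPow M n)).map g

theorem surjective_tensorMap {A A' B B' : X.Modules} (f : A ⟶ A') (g : B ⟶ B') (y : X)
    (hf : Function.Surjective (stalkLin f y)) (hg : Function.Surjective (stalkLin g y)) :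
    Function.Surjective (stalkLin (((DCoh.tensorBi (X := X)).map f).app B ≫
      ((DCoh.tensorBi (X := X)).obj A').map g) y) := fun w => by
  obtain ⟨w, rfl⟩ := (stalkTensor y A' B').surjective w
  obtain ⟨v, rfl⟩ := LinearMap.lTensor_surjective _ hg w
  obtain ⟨z, rfl⟩ := LinearMap.rTensor_surjective _ hf v
  refine ⟨stalkTensor y A B z, ?_⟩
  rw [stalkLin_comp, LinearMap.comp_apply]
  erw [stalkTensor_natural_left y f z, stalkTensor_natural_right y g]

theorem surjective_powMap {L M : X.Modules} (g : L ⟶ M) (y : X) (hg : Function.Surjective (stalkLin g y)) :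
    ∀ n, Function.Surjective (stalkLin (powMap g n) y)
  | 0 => by
    haveI : IsIso (powMap g 0) := inferInstanceAs (IsIso (𝟙 _))
    exact ((isIso_iff_stalk _).1 inferInstance y).2
  | n + 1 => surjective_tensorMap _ g y (surjective_powMap g y hg n) hg

theorem mem_smul_of_range {R A A' B C : Type*} [CommRing R] [AddCommGroup A] [Module R A] [AddCommGroup A']
    [Module R A'] [AddCommGroup B] [Module R B] [AddCommGroup C] [Module R C] (f : A →ₗ[R] A')
    (c : A' ⊗[R] B →ₗ[R] C) (J K : Ideal R) (hf : LinearMap.range f ≤ J • ⊤)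
    (hc : ∀ z, c z ∈ K • (⊤ : Submodule R C)) (z : A ⊗[R] B) :
    c (f.rTensor B z) ∈ (J * K) • (⊤ : Submodule R C) := by
  induction z using TensorProduct.induction_on with
  | zero => simp
  | add a b ha hb => rw [map_add, map_add]; exact Submodule.add_mem _ ha hb
  | tmul a b =>
    rw [LinearMap.rTensor_tmul]
    refine Submodule.smul_induction_on (hf ⟨a, rfl⟩) (fun r hr e _ => ?_) fun p q hp hq => ?_
    · rw [← TensorProduct.smul_tmul', map_smul, Submodule.mul_smul]
      exact Submodule.smul_mem_smul hr (hc _)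
    · rw [TensorProduct.add_tmul, map_add]
      exact Submodule.add_mem _ hp hq

variable (I : X.IdealSheafData)

/-- The ideal as a module. -/
abbrev idl : X.Modules := (Dual3.idealMul I).obj (Coh.structureModule X)

/-- The product map from the tensor powers of an ideal. -/
def mu : ∀ n, CohB1.tensorPow (idl I) n ⟶ Coh.structureModule X
  | 0 => 𝟙 _
  | n + 1 => ((DCoh.tensorBi (X := X)).map (mu n)).app (idl I) ≫
      (AmpleLib.unitL (idl I)).hom ≫ Dual3.idealMulι I (Coh.structureModule X)

theorem range_mu (y : X) (n : ℕ) : LinearMap.range (stalkLin (mu I n) y) ≤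
    IntMult.stalkIdeal I y ^ n • (⊤ : Submodule (X.presheaf.stalk y) ((Coh.structureModule X).presheaf.stalk y)) := by
  induction n with
  | zero => rw [pow_zero, Ideal.one_eq_top, Submodule.top_smul]; exact le_top
  | succ n ih =>
    let a := ((DCoh.tensorBi (X := X)).map (mu I n)).app (idl I)
    let v : CohB1.tensorMod (Coh.structureModule X) (idl I) ⟶ Coh.structureModule X :=
      (AmpleLib.unitL (idl I)).hom ≫ Dual3.idealMulι I (Coh.structureModule X)
    have hv : ∀ w, stalkLin v y w ∈ IntMult.stalkIdeal I y • (⊤ : Submodule (X.presheaf.stalk y) _) := fun w =>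
      (IdealMulLib.mem_range_idealMulι_iff I _ y _).1
        ⟨stalkLin (AmpleLib.unitL (idl I)).hom y w,
          (LinearMap.congr_fun (stalkLin_comp (AmpleLib.unitL (idl I)).hom
            (Dual3.idealMulι I (Coh.structureModule X)) y) w).symm⟩
    rintro q ⟨z, rfl⟩
    obtain ⟨z, rfl⟩ := (stalkTensor y (CohB1.tensorPow (idl I) n) (idl I)).surjective z
    have h1 : ∀ z', stalkLin (a ≫ v) y (stalkTensor y (CohB1.tensorPow (idl I) n) (idl I) z') =
        (stalkLin v y).comp (stalkTensor y (Coh.structureModule X) (idl I)).toLinearMap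
          ((stalkLin (mu I n) y).rTensor _ z') := fun z' =>
      (LinearMap.congr_fun (stalkLin_comp a v y) _).trans
        (congrArg (stalkLin v y) (stalkTensor_natural_left y (mu I n) z'))
    have h2 := mem_smul_of_range (stalkLin (mu I n) y)
      ((stalkLin v y).comp (stalkTensor y (Coh.structureModule X) (idl I)).toLinearMap) _ _ ih
      (fun w => hv (stalkTensor y (Coh.structureModule X) (idl I) w)) z
    rw [← h1 z, ← pow_succ] at h2
    exact h2

theorem surjective_mu (y : X) (hy : y ∉ I.support) : ∀ n, Function.Surjective (stalkLin (mu I n) y)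
  | 0 => by
    haveI : IsIso (mu I 0) := inferInstanceAs (IsIso (𝟙 _))
    exact ((isIso_iff_stalk _).1 inferInstance y).2
  | n + 1 => by
    have hι : Function.Surjective (stalkLin (Dual3.idealMulι I (Coh.structureModule X)) y) := fun z => by
      refine (IdealMulLib.mem_range_idealMulι_iff I _ y z).2 ?_
      rw [IdealMulLib.stalkIdeal_eq_top I hy, Submodule.top_smul]
      trivial
    show Function.Surjective (stalkLin (((DCoh.tensorBi (X := X)).map (mu I n)).app (idl I) ≫
      (AmpleLib.unitL (idl I)).hom ≫ Dual3.idealMulι I (Coh.structureModule X)) y)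
    rw [stalkLin_comp, stalkLin_comp, LinearMap.coe_comp, LinearMap.coe_comp]
    refine (hι.comp ((isIso_iff_stalk _).1 inferInstance y).2).comp fun w => ?_
    obtain ⟨w, rfl⟩ := (stalkTensor y (Coh.structureModule X) (idl I)).surjective w
    obtain ⟨v, rfl⟩ := LinearMap.rTensor_surjective _ (surjective_mu y hy n) w
    exact ⟨stalkTensor y _ _ v, stalkTensor_natural_left y (mu I n) v⟩

theorem exists_factor (n : ℕ) : ∃ t : CohB1.tensorPow (idl I) n ⟶
    (Dual3.idealMul (I ^ n)).obj (Coh.structureModule X),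
    t ≫ Dual3.idealMulι (I ^ n) (Coh.structureModule X) = mu I n := by
  let b := Dual3.idealMulι (I ^ n) (Coh.structureModule X)
  have hz : mu I n ≫ cokernel.π b = 0 := by
    refine (eq_zero_iff_stalk _).2 fun y => LinearMap.ext fun z => ?_
    obtain ⟨w, hw⟩ := (IdealMulLib.mem_range_idealMulι_iff (I ^ n) _ y (stalkLin (mu I n) y z)).2 (by
      rw [InfNbhdLib.stalkIdeal_pow]
      exact range_mu I y n ⟨z, rfl⟩)
    rw [stalkLin_comp, LinearMap.comp_apply, ← hw, ← LinearMap.comp_apply,
      ← stalkLin_comp, cokernel.condition,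
      (eq_zero_iff_stalk (0 : _ ⟶ cokernel b)).mp rfl y]
    rfl
  exact ⟨Abelian.monoLift b _ hz, Abelian.monoLift_comp _ _ _⟩

/-- Projections from a larger tensor power. -/
def powProj {F : X.Modules} {L : X.Modules} (p : F ⟶ L) (e : F ⟶ Coh.structureModule X) (n k : ℕ) :
    CohB1.tensorPow F (n + k) ⟶ CohB1.tensorPow L n :=
  (AmpleLib.powAdd F n k).hom ≫ (((DCoh.tensorBi (X := X)).map (powMap p n)).app _ ≫
      ((DCoh.tensorBi (X := X)).obj (CohB1.tensorPow L n)).map (powMap e k)) ≫
    (AmpleLib.tIso (Iso.refl _) (AmpleLib.powUnit k) ≪≫ AmpleLib.unitR _).hom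

theorem surjective_powProj {F : X.Modules} {L : X.Modules} (p : F ⟶ L) (e : F ⟶ Coh.structureModule X)
    (y : X) (hp : Function.Surjective (stalkLin p y)) (he : Function.Surjective (stalkLin e y)) (n k : ℕ) :
    Function.Surjective (stalkLin (powProj p e n k) y) := by
  rw [powProj, stalkLin_comp, stalkLin_comp, LinearMap.coe_comp, LinearMap.coe_comp]
  exact (((isIso_iff_stalk _).1 inferInstance y).2.comp
    (surjective_tensorMap _ _ y (surjective_powMap p y hp n) (surjective_powMap e y he k))).comp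
    ((isIso_iff_stalk _).1 inferInstance y).2

theorem restrictUnit_secHom_app (U : X.Opens) (G : X.Modules) (s : Γ(G, U)) (V : U.toScheme.Opens) :
    ((DCohLib.restrictUnit U.ι).hom ≫ DCohLib.secHom ((Scheme.Modules.restrictFunctor U.ι).obj G)
      (G.presheaf.map (homOfLE U.ι_image_top.le).op s : Γ((Scheme.Modules.restrictFunctor U.ι).obj G, ⊤))).app V
      (1 : Γ(X, U.ι ''ᵁ V)) =
    G.presheaf.map (homOfLE ((U.ι.image_mono le_top : U.ι ''ᵁ V ≤ U.ι ''ᵁ ⊤).trans U.ι_image_top.le)).op s := by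
  have hone : (DCohLib.restrictUnit U.ι).hom.app V (1 : Γ(X, U.ι ''ᵁ V)) = (1 : Γ(U.toScheme, V)) :=
    map_one (U.ι.appIso V).hom.hom
  refine (congrArg ((DCohLib.secHom ((Scheme.Modules.restrictFunctor U.ι).obj G)
    (G.presheaf.map (homOfLE U.ι_image_top.le).op s : Γ((Scheme.Modules.restrictFunctor U.ι).obj G, ⊤))).app V)
    hone).trans ?_
  refine (DCohLib.secHom_app_one ((Scheme.Modules.restrictFunctor U.ι).obj G)
    (G.presheaf.map (homOfLE U.ι_image_top.le).op s : Γ((Scheme.Modules.restrictFunctor U.ι).obj G, ⊤)) V).trans ?_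
  exact (ConcreteCategory.congr_hom (G.presheaf.map_comp (homOfLE U.ι_image_top.le).op
    (homOfLE (U.ι.image_mono (le_top : V ≤ ⊤))).op) s).symm

theorem app_eq_res {U : X.Opens} {T G : X.Modules} (s : Γ(G, U)) (h : T ⟶ Coh.structureModule X) (g : T ⟶ G)
    (φ : (Scheme.Modules.restrictFunctor U.ι).obj (Coh.structureModule X) ⟶ (Scheme.Modules.restrictFunctor U.ι).obj G)
    (hg : (Scheme.Modules.restrictFunctor U.ι).map g = (Scheme.Modules.restrictFunctor U.ι).map h ≫ φ)
    (hφ : ∀ V : U.toScheme.Opens, ∃ hle : U.ι ''ᵁ V ≤ U,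
      φ.app V (1 : Γ(X, U.ι ''ᵁ V)) = G.presheaf.map (homOfLE hle).op s)
    (V : U.toScheme.Opens) (hle : U.ι ''ᵁ V ≤ U) (w : Γ(T, U.ι ''ᵁ V))
    (h1 : h.app (U.ι ''ᵁ V) w = (1 : Γ(X, U.ι ''ᵁ V))) :
    g.app (U.ι ''ᵁ V) w = G.presheaf.map (homOfLE hle).op s := by
  obtain ⟨_, h2⟩ := hφ V
  refine Eq.trans ?_ ((congrArg (φ.app V) h1).trans h2)
  exact ConcreteCategory.congr_hom (congrArg (fun q => Scheme.Modules.Hom.app q V) hg) w

/-- A section over the complement of the ideal is hit, locally there, by a map from a tensor power. -/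
theorem exists_hom [IsNoetherian X] (G : X.Modules) [Coh.IsQCoh G] (U : X.Opens)
    (hU : (U : Set X) = (I.support : Set X)ᶜ) (s : Γ(G, U)) {F : X.Modules} (p : F ⟶ idl I)
    (e : F ⟶ Coh.structureModule X) [Epi p] [Epi e] :
    ∃ n₀ : ℕ, ∀ m, n₀ ≤ m → ∃ g : CohB1.tensorPow F m ⟶ G, ∀ y ∈ U, ∃ (V : X.Opens) (_ : y ∈ V) (hV : V ≤ U)
      (w : Γ(CohB1.tensorPow F m, V)), g.app V w = G.presheaf.map (homOfLE hV).op s := by
  let R := Scheme.Modules.restrictFunctor U.ι
  let s' : Γ(R.obj G, ⊤) := G.presheaf.map (homOfLE U.ι_image_top.le).op s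
  let φ : R.obj (Coh.structureModule X) ⟶ R.obj G :=
    (DCohLib.restrictUnit U.ι).hom ≫ DCohLib.secHom (R.obj G) s'
  obtain ⟨n, ψ, hψ⟩ := Groth.Agent.S9515.result X G (Coh.structureModule X) ‹_› (DevLib.isCoh_structureModule X) I U hU φ
  obtain ⟨t, ht⟩ := exists_factor I n
  refine ⟨n, fun m hm => ?_⟩
  obtain ⟨k, rfl⟩ := Nat.exists_eq_add_of_le hm
  let h := powProj p e n k ≫ mu I n
  refine ⟨powProj p e n k ≫ t ≫ ψ, fun y hy => ?_⟩
  have hsurj : Function.Surjective (stalkLin h y) := by
    rw [stalkLin_comp, LinearMap.coe_comp]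
    refine (surjective_mu I y (fun hc => ?_) n).comp (surjective_powProj p e y
      ((epi_iff_stalk p).1 inferInstance y) ((epi_iff_stalk e).1 inferInstance y) n k)
    exact (show y ∈ ((I.support : Set X)ᶜ) from hU ▸ hy) hc
  obtain ⟨z, hz⟩ := hsurj ((Coh.structureModule X).presheaf.germ U y hy (1 : Γ(X, U)))
  obtain ⟨W, hyW, w, rfl⟩ := TopCat.Presheaf.exists_germ_eq (CohB1.tensorPow F (n + k)).presheaf z
  erw [stalkLin_germ] at hz
  obtain ⟨V, hyV, hVW, hVU, hV⟩ := TopCat.Presheaf.germ_eq (Coh.structureModule X).presheaf y hyW hy _ _ hz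
  let V' : U.toScheme.Opens := U.ι ⁻¹ᵁ V
  have hle : U.ι ''ᵁ V' ≤ V := U.ι.image_preimage_eq_opensRange_inf V ▸ inf_le_right
  have hleU : U.ι ''ᵁ V' ≤ U := hle.trans (leOfHom hVU)
  refine ⟨U.ι ''ᵁ V', ⟨⟨y, hy⟩, hyV, rfl⟩, hleU,
    (CohB1.tensorPow F (n + k)).presheaf.map (homOfLE (hle.trans (leOfHom hVW))).op w, ?_⟩
  have h1 : h.app (U.ι ''ᵁ V')
      ((CohB1.tensorPow F (n + k)).presheaf.map (homOfLE (hle.trans (leOfHom hVW))).op w) =
        (1 : Γ(X, U.ι ''ᵁ V')) := by
    refine (DCohLib.app_natural h (hle.trans (leOfHom hVW)) w).trans ?_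
    have h2 := congrArg (fun z => (Coh.structureModule X).presheaf.map (homOfLE hle).op z) hV
    erw [← ConcreteCategory.comp_apply, ← Functor.map_comp] at h2
    refine h2.trans ?_
    exact (congrArg (X.presheaf.map (homOfLE hle).op) (map_one (X.presheaf.map hVU.op).hom)).trans
      (map_one (X.presheaf.map (homOfLE hle).op).hom)
  have h3 : R.map (powProj p e n k ≫ t ≫ ψ) = R.map h ≫ φ := by
    show R.map _ = R.map (powProj p e n k ≫ mu I n) ≫ φ
    rw [← ht, Functor.map_comp, Functor.map_comp, hψ, Functor.map_comp, Functor.map_comp]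
    simp only [Category.assoc]
    rfl
  exact app_eq_res s h (powProj p e n k ≫ t ≫ ψ) φ h3 (fun V => ⟨_, restrictUnit_secHom_app U G s V⟩) V' hleU _ h1

end Groth.Agent.TPowGenLib
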